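import Cfsg.Agent.Lib.FischerThm.Srg

/-!
# Node F24: the number of common neighbours of a far pair

With valency 31671 and 3510 common neighbours of a commuting pair, a far pair has 3240 of them.

Owner: helper75.
-/

set_option autoImplicit false
set_option maxRecDepth 20000

namespace Cfsg.Agent.Lib.FischerThm.F24

open Cfsg Cfsg.Agent.Lib.FischerMTypes.Primitive

/-- some prime among eight sees that the number is not a square -/
def nonSq (D : ℕ) : Bool :=
  [7, 13, 17, 19, 23, 29, 31, 37].any fun p => (List.range p).all fun x => x * x % p != D % p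

/-- the discriminant for `m` common neighbours of a far pair -/
def disc (m : ℕ) : ℕ := (3510 - m) * (3510 - m) + 4 * (31671 - m)

/-- the candidates are excluded -/
def bad (m : ℕ) : Bool := (31671 * 28160 % m != 0) || nonSq (disc m)

theorem bad_all : ((List.range 3239).all fun i => bad (i + 1)) = true := by decide +kernel

theorem not_square {D p : ℕ} (hp : (List.range p).all (fun x => x * x % p != D % p) = true) (h0 : 0 < p) :
    ¬ IsSquare D := by
  rintro ⟨r, rfl⟩
  rw [List.all_eq_true] at hp
  have := hp (r % p) (List.mem_range.2 (Nat.mod_lt _ h0))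
  simp [Nat.mul_mod] at this

theorem not_square_of_nonSq {D : ℕ} (h : nonSq D = true) : ¬ IsSquare D := by
  rw [nonSq, List.any_eq_true] at h
  obtain ⟨p, hp, hall⟩ := h
  refine not_square hall ?_
  simp only [List.mem_cons, List.not_mem_nil, or_false] at hp
  omega

universe u

variable {G : Type u} [Group G] [Finite G] {D : Set G}

theorem mu_eq (hP : Prim D) {d c b : G} (hd : d ∈ D) (hc : c ∈ far D d) (hb : b ∈ perp D d)
    (hk : (perp D d).ncard = 31671) (hl : (perp₂ D d b).ncard = 3510)
    (hle : (perp₂ D d c).ncard ≤ 3240) : (perp₂ D d c).ncard = 3240 := by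
  set m := (perp₂ D d c).ncard with hm
  have hcount := hP.far_count hd hc hb
  rw [hk, hl, ← hm] at hcount
  have hm0 : m ≠ 0 := by
    intro h; rw [h] at hcount; omega
  have hD : D.ncard = 1 + 31671 + (far D d).ncard := by
    have hs : D = insert d (perp D d) ∪ far D d := ?_
    rw [congrArg Set.ncard hs, ← hk, Set.ncard_union_eq ?_ (Set.toFinite _) (Set.toFinite _),
      Set.ncard_insert_of_notMem (fun h => h.2.1 rfl) (Set.toFinite _)]
    · omega
    · rw [Set.disjoint_left]
      rintro y (rfl | hy) h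
      · exact h.2 (Commute.refl _)
      · exact h.2 hy.2.2
    · ext y
      exact ⟨fun hy => (hP.mem_cases (a := d) hy).elim (fun e => Or.inl (Or.inl e))
        fun h => h.elim (fun h => Or.inl (Or.inr h)) Or.inr,
        fun h => by rcases h with (rfl | h) | h <;> [exact hd; exact h.1; exact h.1]⟩
  obtain ⟨r, s, -, heq⟩ := hP.mult hd hc hb
  rw [hk, hl, ← hm] at heq
  by_contra hne
  have hmem : m - 1 ∈ List.range 3239 := List.mem_range.2 (by omega)
  have hb' := List.all_eq_true.1 bad_all _ hmem
  rw [show m - 1 + 1 = m by omega, bad, Bool.or_eq_true] at hb'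
  rcases hb' with hb' | hb'
  · refine (bne_iff_ne.1 hb') ?_
    exact Nat.mod_eq_zero_of_dvd (Dvd.intro_left _ (by omega : (far D d).ncard * m = 31671 * 28160))
  · have hΔ : (((3510 : ℕ) : ℤ) - (m : ℤ)) ^ 2 + 4 * (((31671 : ℕ) : ℤ) - (m : ℤ)) = ((disc m : ℕ) : ℤ) := by
      rw [disc]; push_cast [Nat.cast_sub (show m ≤ 3510 by omega), Nat.cast_sub (show m ≤ 31671 by omega)]; ring
    rw [hΔ] at heq
    have hN : 0 < 2 * ((31671 : ℕ) : ℤ) + ((D.ncard : ℤ) - 1) * (((3510 : ℕ) : ℤ) - (m : ℤ)) := by
      have h1 : (0 : ℤ) ≤ (D.ncard : ℤ) - 1 := by omega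
      have h2 : (0 : ℤ) ≤ ((3510 : ℕ) : ℤ) - (m : ℤ) := by omega
      have := mul_nonneg h1 h2
      omega
    have h0 : ((r : ℤ) - s) ≠ 0 := fun h0 => by
      rw [h0, zero_pow two_ne_zero, zero_mul] at heq
      exact hN.ne' (eq_zero_of_pow_eq_zero heq.symm)
    obtain ⟨t, ht⟩ := (Int.pow_dvd_pow_iff two_ne_zero).1 (Dvd.intro _ heq)
    refine not_square_of_nonSq hb' ⟨t.natAbs, ?_⟩
    have h' : ((disc m : ℕ) : ℤ) = t * t := by
      refine mul_left_cancel₀ (pow_ne_zero 2 h0) (heq.trans ?_)
      rw [ht]; ring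
    exact_mod_cast h'.trans (Int.natAbs_mul_self' t).symm

end Cfsg.Agent.Lib.FischerThm.F24
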