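import Cfsg.Agent.Lib.FischerThm.F24.Mu
import Cfsg.Agent.Lib.FischerTop83.Model

/-!
# Node F24: the step data, the pinned parameters and the space

Owner: helper75.
-/

set_option autoImplicit false
set_option linter.style.haveILetI false
set_option linter.unusedSectionVars false

namespace Cfsg.Agent.Lib.FischerThm.F24

open Cfsg Cfsg.Agent.Lib.FischerMTypes.Primitive Cfsg.Agent.Lib.FischerMTypes.Step
open Cfsg.Agent.Lib.FischerMTypes.TraceCounts (Sys)
open Cfsg.Agent.Lib.FischerMTypes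
open Cfsg.Agent.Lib.FischerTop83 (Space Base23)

universe u

/-- a group all of whose local groups are of type M(23), with a model of the local group -/
structure Data {G : Type u} [Group G] (D : Set G) {Q : Type u} [Group Q] [Finite Q] (E : Set Q)
    {Q₂ : Type u} [Group Q₂] [Finite Q₂] (E₂ : Set Q₂) (F : Type) [Field F] [Fintype F] where
  prim : Prim D
  B : Base23 E E₂ F
  S : StepData D E 31671 3510 693 351 4585351680

namespace Data

variable {G : Type u} [Group G] [Finite G] {D : Set G} {Q : Type u} [Group Q] [Finite Q] {E : Set Q}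
  {Q₂ : Type u} [Group Q₂] [Finite Q₂] {E₂ : Set Q₂} {F : Type} [Field F] [Fintype F]
  (K : Data D E E₂ F)

include K

/-- far pairs have common neighbours -/
theorem mem_near {a x : G} (ha : a ∈ D) (hx : x ∈ D) (hax : ¬ Commute a x) :
    (perp₂ D a x).Nonempty := by
  have hP := K.prim
  obtain ⟨b, hb, hne, hc⟩ := hP.wall a ha
  have h := hP.far_count ha ⟨hx, hax⟩ (b := b) ⟨hb, hne, hc⟩
  rw [K.S.ncard_perp ha, K.S.ncard_edge ha (b := b) ⟨hb, hne, hc⟩] at h
  by_contra h0
  rw [Set.not_nonempty_iff_eq_empty] at h0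
  rw [h0, Set.ncard_empty, mul_zero] at h
  omega

theorem mu {a x : G} (ha : a ∈ D) (hx : x ∈ D) (hax : ¬ Commute a x) : (perp₂ D a x).ncard = 3240 := by
  have hP := K.prim
  obtain ⟨b, hb, hne, hc⟩ := hP.wall a ha
  exact mu_eq hP ha ⟨hx, hax⟩ (b := b) ⟨hb, hne, hc⟩ (K.S.ncard_perp ha)
    (K.S.ncard_edge ha ⟨hb, hne, hc⟩) (M24Data.trace_bounds K.S ha ⟨hx, hax, K.mem_near ha hx hax⟩).1

theorem pinned : Pinned D 31671 3510 693 351 3240 where
  small := M24Data.small
  self _ ha := M24Data.self_mem K.B.S22 K.B.S K.S K.B.hM ha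
  trace_card _ ha _ hx := K.mu ha hx.1 hx.2.1
  meet a ha x hx f hf hf' := by
    rw [(M24Data.trace_bounds K.S ha hx).2 (K.mu ha hx.1 hx.2.1) f hf hf']
    norm_num
  big_edge := by norm_num
  big_trace := by norm_num

theorem parity {a : G} (ha : a ∈ D) : a ∉ commutator G :=
  ParityM24.parity K.B.S22 K.B.S K.S K.B.hM K.pinned ha

theorem exists_space : ∃ X : Space D E, ∀ a (ha : a ∈ D) (q : Q), X.e a ha q ∈ commutator G := by
  have P := K.pinned
  have hD := K.prim.hD
  have hprim := K.prim.hprim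
  have hor : ∀ a ∈ D, ∀ g : G, g ∈ commutator G ∨ g * a ∈ commutator G := fun a ha g =>
    IndexTwoLayer.mem_or (M := commutator G) hprim hD
      (fun _ hx _ hy => IndexTwoLayer.mul_mem_commutator hD hprim hx hy) ha g
  have hself : ∀ a (ha : a ∈ D), a ∈ Subgroup.closure (perp D a) ∧ K.S.f ha a = 1 := by
    intro a ha
    refine ⟨P.self a ha, ?_⟩
    rw [← K.S.f_one ha, K.S.f_eq_iff ha (P.self a ha) (one_mem _)]
    exact fun u hu => by rw [mul_one]; exact hu.2.2.symm.inv_right
  have hx : ∀ a (ha : a ∈ D), ∀ q : Q, ∃ g : G, (g ∈ Subgroup.closure (perp D a) ∧ g ∈ commutator G ∧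
      K.S.f ha g = q) ∧ ∀ g', g' ∈ Subgroup.closure (perp D a) → g' ∈ commutator G → K.S.f ha g' = q → g' = g := by
    intro a ha q
    obtain ⟨hs, hfa⟩ := hself a ha
    obtain ⟨h, hh, rfl⟩ := K.S.exists_f_closure ha q
    obtain ⟨g, hg, hgc, hgf⟩ : ∃ g, g ∈ Subgroup.closure (perp D a) ∧ g ∈ commutator G ∧
        K.S.f ha g = K.S.f ha h := by
      rcases hor a ha h with h' | h'
      · exact ⟨h, hh, h', rfl⟩
      · exact ⟨h * a, mul_mem hh hs, h', by rw [K.S.f_mul ha hh hs, hfa, mul_one]⟩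
    refine ⟨g, ⟨hg, hgc, hgf⟩, fun g' hg' hgc' hgf' => ?_⟩
    rcases K.S.center_perp M24Data.small ha (mul_mem (inv_mem hg') hg)
        ((K.S.f_eq_iff ha hg' hg).1 (hgf'.trans hgf.symm)) with e | e
    · exact (inv_mul_eq_one.1 e)
    · exact absurd (e ▸ mul_mem (inv_mem hgc') hgc) (K.parity ha)
  choose sec hsec huni using hx
  have hhom : ∀ a (ha : a ∈ D) (q r : Q), sec a ha (q * r) = sec a ha q * sec a ha r := fun a ha q r => by
    obtain ⟨h1, h2, h3⟩ := hsec a ha q
    obtain ⟨g1, g2, g3⟩ := hsec a ha r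
    exact (huni a ha _ _ (mul_mem h1 g1) (mul_mem h2 g2) (by rw [K.S.f_mul ha h1 g1, h3, g3])).symm
  refine ⟨⟨fun a ha => Basic.mul_self hD.1 ha, fun a ha b hb => ?_, fun a ha => MonoidHom.mk' (sec a ha) (hhom a ha),
    ?_, ?_, ?_, ?_, ?_⟩, fun a ha q => (hsec a ha q).2.1⟩
  · have := hD.2.1 a b hb
    rwa [Basic.inv_eq hD.1 ha] at this
  · intro a ha q r h
    change sec a ha q = sec a ha r at h
    rw [← (hsec a ha q).2.2, h, (hsec a ha r).2.2]
  · exact fun a ha q => Levels.commute_closure (fun y hy => hy.2.2) _ (hsec a ha q).1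
  · exact fun a ha q h => K.parity ha (h ▸ (hsec a ha q).2.1)
  · intro a ha g hg
    obtain ⟨hs, hfa⟩ := hself a ha
    have hgC : g ∈ Subgroup.closure (perp D a) := by
      rw [StepData.centralizer_eq K.S P ha, Subgroup.mem_centralizer_singleton_iff]
      exact hg.eq.symm
    refine ⟨K.S.f ha g, ?_⟩
    rcases hor a ha g with h | h
    · exact Or.inl (huni a ha _ g hgC h rfl)
    · refine Or.inr ?_
      have h2 := huni a ha (K.S.f ha g) (g * a) (mul_mem hgC hs) h
        (by rw [K.S.f_mul ha hgC hs, hfa, mul_one])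
      show g = a * sec a ha (K.S.f ha g)
      rw [← h2, ← mul_assoc, hg.eq, mul_assoc, Basic.mul_self hD.1 ha, mul_one]
  · intro a ha y
    obtain ⟨hs, hfa⟩ := hself a ha
    have key : ∀ y ∈ perp D a, y = a * sec a ha (K.S.f ha y) := fun y hy => by
      have hyC := Subgroup.subset_closure hy
      have h2 := huni a ha (K.S.f ha y) (a * y) (mul_mem hs hyC)
        (IndexTwoLayer.mul_mem_commutator hD hprim ha hy.1) (by rw [K.S.f_mul ha hs hyC, hfa, one_mul])
      rw [← h2, ← mul_assoc, Basic.mul_self hD.1 ha, one_mul]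
    constructor
    · exact fun hy => ⟨_, K.S.f_mem ha hy, key y hy⟩
    · rintro ⟨s, hs', rfl⟩
      obtain ⟨v, hv, rfl⟩ := K.S.exists_f ha hs'
      show a * sec a ha (K.S.f ha v) ∈ perp D a
      rw [← key v hv]
      exact hv

end Data

end Cfsg.Agent.Lib.FischerThm.F24
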